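import Cfsg.Agent.KFacts.TwF4.Irr
import Cfsg.Agent.KFacts.TwF4.TorFix
import Cfsg.Agent.KFacts.TwF4.SylU
set_option linter.all false

/-!
# Orders of the centralisers of involutions of `²F₄(q)`, `q ≥ 8` (helper127)

* `card_rank_one` : `|H| = |B| (1 + |X|)` from a rank one Bruhat decomposition;
* `card_PL`, `card_HO` : `|C(z)| = |C(z) ∩ UT| (1 + q²)`, `|C(o)| = |C(o) ∩ UT| (1 + q)`;
* `prime_of_commute` : an odd prime order element commuting with an involution has order dividing `q - 1`, `q + 1` or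
  `q² + 1`.
-/

set_option autoImplicit false
set_option linter.unusedSectionVars false

namespace Cfsg.Agent.H127.TwFInv

open Cfsg.Agent.SplitTwo Cfsg.Agent.SplitTwo.ZS Cfsg.Agent.TitsThree.RankTwoZ Cfsg.Agent.KFacts.TwF4
open Cfsg.Agent.KFacts.TwF4.Arc Cfsg.Agent.KFacts.TwF4.Irr Cfsg.Agent.KFacts.TwF4.Layers
open Cfsg.Agent.KFacts.TwF4.Perf Cfsg.Agent.KFacts.TwF4.Inv Cfsg.Agent.KFacts.TwF4.SylU

universe u

/-- **order of a group with a rank one Bruhat decomposition** -/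
theorem card_rank_one {G : Type*} [Group G] [Finite G] {H B X : Subgroup G} {n : G} (hBH : B ≤ H) (hXB : X ≤ B)
    (hn : n ∈ H) (hX : ∃ x ∈ X, x ≠ 1)
    (hdec : ∀ g ∈ H, g ∈ B ∨ ∃ b ∈ B, ∃ x ∈ X, g = b * n * x)
    (hinf : ∀ x ∈ X, n * x * n⁻¹ ∈ B → x = 1) :
    Nat.card H = Nat.card B * (1 + Nat.card X) := by
  classical
  have hnB : n ∉ B := by
    intro h
    obtain ⟨x, hx, hx1⟩ := hX
    exact hx1 (hinf x hx (mul_mem (mul_mem h (hXB hx)) (inv_mem h)))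
  let f : (B ⊕ (B × X)) → H := fun s => match s with
    | Sum.inl b => ⟨(b : G), hBH b.2⟩
    | Sum.inr p => ⟨(p.1 : G) * n * (p.2 : G), mul_mem (mul_mem (hBH p.1.2) hn) (hBH (hXB p.2.2))⟩
  have hnot : ∀ (b b' : B) (x : X), (b : G) ≠ (b' : G) * n * (x : G) := by
    intro b b' x h
    apply hnB
    have e : n = (b' : G)⁻¹ * b * (x : G)⁻¹ := by rw [h]; group
    rw [e]
    exact mul_mem (mul_mem (inv_mem b'.2) b.2) (inv_mem (hXB x.2))
  have hf : Function.Bijective f := by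
    constructor
    · rintro (b | ⟨b, x⟩) (b' | ⟨b', x'⟩) h
      · have h0 : ((f (Sum.inl b) : H) : G) = (f (Sum.inl b') : H) := congrArg (fun y : H => (y : G)) h
        have h1 : (b : G) = b' := h0
        rw [Subtype.ext h1]
      · have h0 : ((f (Sum.inl b) : H) : G) = (f (Sum.inr (b', x')) : H) := congrArg (fun y : H => (y : G)) h
        exact absurd h0 (hnot b b' x')
      · have h0 : ((f (Sum.inr (b, x)) : H) : G) = (f (Sum.inl b') : H) := congrArg (fun y : H => (y : G)) h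
        exact absurd h0.symm (hnot b' b x)
      · have h0 : ((f (Sum.inr (b, x)) : H) : G) = (f (Sum.inr (b', x')) : H) := congrArg (fun y : H => (y : G)) h
        have h1 : (b : G) * n * (x : G) = (b' : G) * n * (x' : G) := h0
        have h2 : n * ((x : G) * (x' : G)⁻¹) * n⁻¹ = (b : G)⁻¹ * b' := by
          calc n * ((x : G) * (x' : G)⁻¹) * n⁻¹ = (b : G)⁻¹ * ((b : G) * n * (x : G)) * (x' : G)⁻¹ * n⁻¹ := by group
            _ = (b : G)⁻¹ * b' := by rw [h1]; group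
        have h3 := hinf _ (mul_mem x.2 (inv_mem x'.2)) (h2 ▸ mul_mem (inv_mem b.2) b'.2)
        have h4 : (x : G) = x' := mul_inv_eq_one.1 h3
        have h5 : (b : G) = b' := by
          rw [h4] at h1
          exact mul_right_cancel (mul_right_cancel h1)
        rw [Subtype.ext h4, Subtype.ext h5]
    · rintro ⟨g, hg⟩
      rcases hdec g hg with h | ⟨b, hb, x, hx, rfl⟩
      · exact ⟨Sum.inl ⟨g, h⟩, rfl⟩
      · exact ⟨Sum.inr (⟨b, hb⟩, ⟨x, hx⟩), rfl⟩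
  rw [← Nat.card_eq_of_bijective f hf, Nat.card_sum, Nat.card_prod, mul_add, mul_one]

variable {F : Type*} [Field F] {σ : F →+* F} {G : Type u} [Group G] (S : Full σ G)

theorem card_X8 : Nat.card (S.XZ 8) = Nat.card F * Nat.card F := by
  have h1 : Function.Bijective (fun x : F × F => (⟨S.e 4 x.1 x.2, (mem_X8 S).2 ⟨_, _, rfl⟩⟩ : S.XZ 8)) := by
    constructor
    · rintro ⟨a, b⟩ ⟨c, d⟩ hab
      obtain ⟨h2, h3⟩ := S.injE _ _ _ _ _ (congrArg Subtype.val hab)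
      exact Prod.ext h2 h3
    · rintro ⟨t, ht⟩
      obtain ⟨c, d, rfl⟩ := (mem_X8 S).1 ht
      exact ⟨(c, d), rfl⟩
  rw [← Nat.card_eq_of_bijective _ h1, Nat.card_prod]

theorem card_X1 : Nat.card (S.XZ 1) = Nat.card F := by
  have h1 : Function.Bijective (fun x : F => (⟨S.o 0 x, (mem_X1 S).2 ⟨_, rfl⟩⟩ : S.XZ 1)) := by
    constructor
    · intro a b hab
      exact S.injO _ (congrArg Subtype.val hab)
    · rintro ⟨t, ht⟩
      obtain ⟨c, rfl⟩ := (mem_X1 S).1 ht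
      exact ⟨c, rfl⟩
  rw [← Nat.card_eq_of_bijective _ h1]

/-- every element of `U T` is `u t` -/
theorem form_BT {g : G} (hg : g ∈ J S.XZ 1 8 ⊔ S.T) : ∃ u ∈ J S.XZ 1 8, ∃ t ∈ S.T, g = u * t := by
  have h1 : g ∈ S.T ⊔ J S.XZ 1 8 := by rwa [sup_comm] at hg
  obtain ⟨t, ht, u, hu, h⟩ := mem_sup_of_norm (A := S.T) (B := J S.XZ 1 8) (fun t ht u hu => S.T_conj_J ht hu) h1
  exact ⟨t * u * t⁻¹, S.T_conj_J ht hu, t, ht, by rw [h]; group⟩

theorem X0_inf_BT {x : G} (hx : x ∈ S.XZ 0) (h : x ∈ J S.XZ 1 8 ⊔ S.T) : x = 1 := by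
  obtain ⟨u, hu, t, ht, rfl⟩ := form_BT S h
  exact (S.J07_inf_UT hx hu ht rfl).1

/-- `X_9 ∩ U = 1` -/
theorem X9_inf_U {x : G} (hx : x ∈ S.XZ 9) (hU : x ∈ J S.XZ 1 8) : x = 1 := by
  have Z8 := S.zsys8
  have h1 : S.n2 * x * S.n2⁻¹ ∈ S.XZ (-1) := S.n2_refl.mem' hx (by norm_num)
  have h2 : S.n2 * x * S.n2⁻¹ ∈ J S.XZ 0 7 := S.n2_refl.mem_J hU (by norm_num) (by norm_num)
  have h3 : (S.n2 * x * S.n2⁻¹) * S.e 0 0 1 = S.e 0 0 1 * (S.n2 * x * S.n2⁻¹) :=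
    Z8.commute_succ (k := -1) h1 (by
      show S.e 0 0 1 ∈ S.XZ (-1 + 1)
      exact (mem_X0 S).2 ⟨0, 1, rfl⟩)
  have h4 : S.n2 * x * S.n2⁻¹ ∈ J S.XZ 0 4 := by
    have := Z8.comm_top (k := 0) (b := 7) (r := 4) (by norm_num) (by norm_num) ((mem_X0 S).2 ⟨0, 1, rfl⟩)
      (fun h => one_ne_zero (S.e_eq_one h).2) h2 h3
    exact this
  have h5 := Z8.inter (-1) _ h1 (J_mono (by norm_num) (by norm_num) h4)
  have e : x = S.n2⁻¹ * (S.n2 * x * S.n2⁻¹) * S.n2 := by group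
  rw [e, h5]; group

theorem X9_inf_BT {x : G} (hx : x ∈ S.XZ 9) (h : x ∈ J S.XZ 1 8 ⊔ S.T) : x = 1 := by
  obtain ⟨u, hu, t, ht, e⟩ := form_BT S h
  have hx2 : x * x = 1 := by
    obtain ⟨s, rfl⟩ := (mem_X9 S).1 hx
    rw [S.o_add, char2 S, S.o_zero]
  have h1 : t * t = 1 := by
    apply S.U_inf_T (mul_mem ht ht)
    have e2 : u * (t * u * t⁻¹) * (t * t) = 1 := by
      rw [← hx2, e]; group
    rw [eq_inv_of_mul_eq_one_right e2]
    exact inv_mem (mul_mem hu (S.T_conj_J ht hu))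
  have h2 : t = 1 := by
    obtain ⟨c, d, rfl⟩ := S.mem_T.1 ht
    rw [S.h_mul, ← S.h_one] at h1
    obtain ⟨h7, h8⟩ := S.h_inj _ _ _ _ h1
    rw [S.sq_eq_one h7, S.sq_eq_one h8, S.h_one]
  subst h2
  rw [mul_one] at e
  exact X9_inf_U S hx (e ▸ hu)

section fin

variable [Finite F] [Finite G]

/-- `|C(z)| = |C(z) ∩ UT| (1 + q²)` -/
theorem card_PL : Nat.card S.PL = Nat.card (S.PL ⊓ (J S.XZ 1 8 ⊔ S.T) : Subgroup G) * (1 + Nat.card F * Nat.card F) := by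
  rw [← card_X8 S]
  refine card_rank_one inf_le_left ?_ S.n2_mem ?_ (fun g hg => bruhat_PL S hg) ?_
  · intro x hx
    exact ⟨mem_J hx (by norm_num) (by norm_num), Subgroup.mem_sup_left (mem_J hx (by norm_num) (by norm_num))⟩
  · exact ⟨S.e 4 0 1, (mem_X8 S).2 ⟨0, 1, rfl⟩, fun h => one_ne_zero (S.e_eq_one h).2⟩
  · intro x hx h
    have h1 : S.n2 * x * S.n2⁻¹ ∈ S.XZ 0 := S.n2_refl.mem' hx (by norm_num)
    have h2 := X0_inf_BT S h1 h.2
    have e : x = S.n2⁻¹ * (S.n2 * x * S.n2⁻¹) * S.n2 := by group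
    rw [e, h2]; group

/-- `|C(o)| = |C(o) ∩ UT| (1 + q)` -/
theorem card_HO : Nat.card S.HO = Nat.card (S.HO ⊓ (J S.XZ 1 8 ⊔ S.T) : Subgroup G) * (1 + Nat.card F) := by
  rw [← card_X1 S]
  refine card_rank_one inf_le_left ?_ (n1_mem_HO S) ?_ (fun g hg => bruhat_HO S hg) ?_
  · intro x hx
    exact ⟨X1_HO S hx, Subgroup.mem_sup_left (mem_J hx (by norm_num) (by norm_num))⟩
  · exact ⟨S.o 0 1, (mem_X1 S).2 ⟨1, rfl⟩, fun h => one_ne_zero (S.o_eq_one h)⟩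
  · intro x hx h
    have h1 : S.n1 * x * S.n1⁻¹ ∈ S.XZ 9 := S.n1_refl.mem' hx (by norm_num)
    have h2 := X9_inf_BT S h1 h.2
    have e : x = S.n1⁻¹ * (S.n1 * x * S.n1⁻¹) * S.n1 := by group
    rw [e, h2]; group

/-- an odd prime dividing `|U T|` divides `q - 1` -/
theorem prime_BT (hR : S.R.p = 2) {r : ℕ} (hr : r.Prime) (hr2 : r ≠ 2)
    (h : r ∣ Nat.card (J S.XZ 1 8 ⊔ S.T : Subgroup G)) : r ∣ Nat.card F - 1 := by
  have := Fact.mk hr
  have : Fact (Nat.Prime 2) := ⟨Nat.prime_two⟩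
  obtain ⟨g, hg⟩ := exists_prime_orderOf_dvd_card' r h
  obtain ⟨u, hu, t, ht, e⟩ := form_BT S g.2
  have hgr : (g : G) ^ r = 1 := by
    have := congrArg Subtype.val (pow_orderOf_eq_one g)
    rw [hg] at this
    simpa using this
  have key : ∀ n : ℕ, ∃ u' ∈ J S.XZ 1 8, (u * t) ^ n = u' * t ^ n := by
    intro n
    induction n with
    | zero => exact ⟨1, one_mem _, by simp⟩
    | succ n ih =>
      obtain ⟨u', hu', h'⟩ := ih
      refine ⟨u' * (t ^ n * u * (t ^ n)⁻¹), mul_mem hu' (S.T_conj_J (pow_mem ht n) hu), ?_⟩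
      rw [pow_succ, h', pow_succ]; group
  obtain ⟨u', hu', h'⟩ := key r
  rw [← e, hgr] at h'
  have htr : t ^ r = 1 := by
    apply S.U_inf_T (pow_mem ht r)
    rw [eq_inv_of_mul_eq_one_right h'.symm]
    exact inv_mem hu'
  have ht1 : t ≠ 1 := by
    rintro rfl
    rw [mul_one] at e
    obtain ⟨k, hk⟩ := (IsPGroup.iff_orderOf.1 (two_J S hR (a := 1) (b := 8) (by norm_num))) ⟨g, e ▸ hu⟩
    have h1 : orderOf (⟨g, e ▸ hu⟩ : J S.XZ 1 8) = orderOf (g : G) := by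
      rw [← Subgroup.orderOf_coe]
    have h2 : orderOf (g : G) = r := by
      rw [Subgroup.orderOf_coe, hg]
    rw [h1, h2] at hk
    have h3 : r ∣ 2 ^ k := by rw [← hk]
    exact hr2 ((Nat.prime_dvd_prime_iff_eq hr Nat.prime_two).1 (hr.dvd_of_dvd_pow h3))
  obtain ⟨c, d, rfl⟩ := S.mem_T.1 ht
  have hpow : ∀ n : ℕ, S.h c d ^ n = S.h (c ^ n) (d ^ n) := by
    intro n
    induction n with
    | zero => rw [pow_zero, pow_zero, pow_zero, S.h_one]
    | succ n ih => rw [pow_succ, ih, S.h_mul, pow_succ, pow_succ]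
  rw [hpow, ← S.h_one] at htr
  obtain ⟨hc, hd⟩ := S.h_inj _ _ _ _ htr
  have hdvd : ∀ x : Fˣ, x ^ r = 1 → x ≠ 1 → r ∣ Nat.card F - 1 := by
    intro x hx hx1
    have h1 := orderOf_dvd_of_pow_eq_one hx
    rcases (Nat.dvd_prime hr).1 h1 with h2 | h2
    · exact absurd (orderOf_eq_one_iff.1 h2) hx1
    · have h3 : orderOf x ∣ Nat.card Fˣ := orderOf_dvd_natCard x
      rw [h2, Nat.card_units] at h3
      exact h3
  by_cases hc1 : c = 1
  · apply hdvd d hd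
    rintro rfl
    subst hc1
    exact ht1 S.h_one
  · exact hdvd c hc hc1

/-- **odd prime divisors of the centraliser of an involution** -/
theorem prime_of_commute (hF : ∃ c : Fˣ, c ≠ 1) (hR : S.R.p = 2) {t b : G} (ht : t * t = 1) (ht1 : t ≠ 1)
    {r : ℕ} (hr : r.Prime) (hr2 : r ≠ 2) (hb : orderOf b = r) (hbt : b * t = t * b) :
    r ∣ Nat.card F - 1 ∨ r ∣ 1 + Nat.card F ∨ r ∣ 1 + Nat.card F * Nat.card F := by
  have hconj : ∀ k : G, orderOf (k * b * k⁻¹) = r ∧ (k * b * k⁻¹) * (k * t * k⁻¹) = (k * t * k⁻¹) * (k * b * k⁻¹) := by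
    intro k
    refine ⟨?_, ?_⟩
    · rw [← hb]
      exact (MulAut.conj k).orderOf_eq b
    · calc (k * b * k⁻¹) * (k * t * k⁻¹) = k * (b * t) * k⁻¹ := by group
        _ = k * (t * b) * k⁻¹ := by rw [hbt]
        _ = _ := by group
  rcases classes S hF hR ht ht1 with ⟨u, hu, k, hk⟩ | ⟨s, hs, k, hk⟩
  · obtain ⟨h1, h2⟩ := hconj (S.rot * (S.rot * k))
    have e1 : S.rot * (S.rot * k) * t * (S.rot * (S.rot * k))⁻¹ = S.e 2 0 u := by
      calc S.rot * (S.rot * k) * t * (S.rot * (S.rot * k))⁻¹ = S.rot * (S.rot * (k * t * k⁻¹) * S.rot⁻¹) * S.rot⁻¹ := by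
            group
        _ = S.e 2 0 u := by rw [hk, S.rot_e, S.rot_e]; rfl
    rw [e1] at h2
    have hz1 : S.e 2 0 u ≠ 1 := fun h => hu (S.e_eq_one h).2
    have hPL : S.rot * (S.rot * k) * b * (S.rot * (S.rot * k))⁻¹ ∈ S.PL := by
      rw [← S.centralizer_z (z := S.e 2 0 u) ⟨u, rfl⟩ hz1, Subgroup.mem_centralizer_singleton_iff]
      exact h2
    have h3 : r ∣ Nat.card S.PL := by
      rw [← h1, ← Subgroup.orderOf_mk _ hPL]
      exact orderOf_dvd_natCard _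
    rw [card_PL S] at h3
    rcases hr.dvd_mul.1 h3 with h4 | h4
    · exact Or.inl (prime_BT S hR hr hr2 (h4.trans (Subgroup.card_dvd_of_le inf_le_right)))
    · exact Or.inr (Or.inr h4)
  · obtain ⟨h1, h2⟩ := hconj (S.rot * (S.rot * k))
    have e1 : S.rot * (S.rot * k) * t * (S.rot * (S.rot * k))⁻¹ = S.o 2 s := by
      calc S.rot * (S.rot * k) * t * (S.rot * (S.rot * k))⁻¹ = S.rot * (S.rot * (k * t * k⁻¹) * S.rot⁻¹) * S.rot⁻¹ := by
            group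
        _ = S.o 2 s := by rw [hk, S.rot_o, S.rot_o]; rfl
    rw [e1] at h2
    have hHO : S.rot * (S.rot * k) * b * (S.rot * (S.rot * k))⁻¹ ∈ S.HO := by
      rw [← S.centralizer_o hs, Subgroup.mem_centralizer_singleton_iff]
      exact h2
    have h3 : r ∣ Nat.card S.HO := by
      rw [← h1, ← Subgroup.orderOf_mk _ hHO]
      exact orderOf_dvd_natCard _
    rw [card_HO S] at h3
    rcases hr.dvd_mul.1 h3 with h4 | h4
    · exact Or.inl (prime_BT S hR hr hr2 (h4.trans (Subgroup.card_dvd_of_le inf_le_right)))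
    · exact Or.inr (Or.inl h4)

end fin

end Cfsg.Agent.H127.TwFInv
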