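import Mathlib
import Cfsg.Agent.H127.UnitRoots
import Cfsg.Agent.S0242
import Cfsg.Agent.S0278
set_option linter.all false

-- part: H127/CommPrime
section
/-!
# Semisimple elements commuting with unipotent elements (helper127)

* `exists_lift` : commuting elements of prime orders `p ≠ r` of `G / Z(G)`, `p, r ∤ |Z(G)|`, lift to commuting elements;
* `exists_multiple_root`, `exists_multiple_root_matrix` : a matrix commuting with a non-trivial unipotent matrix has a
  multiple eigenvalue;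
* `period_bound` : the period `s` of the eigenvalues of order `r` under `x ↦ x ^ T` satisfies `s + 2 ≤ n` if some
  eigenvalue is multiple (`n ≥ 4`).
-/

set_option autoImplicit false

namespace Cfsg.Agent.H127.CommPrime

section lift

variable {G : Type*} [Group G] [Finite G]

theorem lift_one {l : ℕ} (hl : 1 < l) (hc : (Nat.card (Subgroup.center G)).Coprime l) {a : G ⧸ Subgroup.center G}
    (ha : orderOf a = l) : ∃ A : G, A ^ l = 1 ∧ (QuotientGroup.mk A : G ⧸ Subgroup.center G) = a := by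
  obtain ⟨X, rfl⟩ := QuotientGroup.mk_surjective a
  obtain ⟨u, hu⟩ := Nat.exists_mul_mod_eq_one_of_coprime hc hl
  set m := Nat.card (Subgroup.center G) with hm
  refine ⟨X ^ (m * u), ?_, ?_⟩
  · have h1 : X ^ l ∈ Subgroup.center G := by
      rw [← QuotientGroup.eq_one_iff, QuotientGroup.mk_pow, ← ha, pow_orderOf_eq_one]
    have h2 : (X ^ l) ^ m = 1 := by
      have h3 : (⟨X ^ l, h1⟩ : Subgroup.center G) ^ m = 1 := by rw [hm]; exact pow_card_eq_one'
      exact congrArg Subtype.val h3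
    calc (X ^ (m * u)) ^ l = ((X ^ l) ^ m) ^ u := by rw [← pow_mul, ← pow_mul, ← pow_mul]; congr 1; ring
      _ = 1 := by rw [h2, one_pow]
  · rw [QuotientGroup.mk_pow, ← pow_mod_orderOf, ha, hu.2, pow_one]

/-- **commuting elements of prime orders modulo the centre lift to commuting elements** -/
theorem exists_lift {p r : ℕ} (hp : p.Prime) (hr : r.Prime) (hpZ : ¬ p ∣ Nat.card (Subgroup.center G))
    (hrZ : ¬ r ∣ Nat.card (Subgroup.center G)) {a b : G ⧸ Subgroup.center G} (ha : orderOf a = p) (hb : orderOf b = r)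
    (hab : Commute a b) : ∃ A B : G, A ^ p = 1 ∧ A ≠ 1 ∧ B ^ r = 1 ∧ B ≠ 1 ∧ A * B = B * A := by
  obtain ⟨A, hA, rfl⟩ := lift_one hp.one_lt (((Nat.Prime.coprime_iff_not_dvd hp).2 hpZ).symm) ha
  obtain ⟨B, hB, rfl⟩ := lift_one hr.one_lt (((Nat.Prime.coprime_iff_not_dvd hr).2 hrZ).symm) hb
  refine ⟨A, B, hA, ?_, hB, ?_, ?_⟩
  · rintro rfl
    rw [QuotientGroup.mk_one, orderOf_one] at ha
    exact hp.one_lt.ne ha
  · rintro rfl
    rw [QuotientGroup.mk_one, orderOf_one] at hb
    exact hr.one_lt.ne hb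
  · set c := A * B * A⁻¹ * B⁻¹ with hc
    have hcZ : c ∈ Subgroup.center G := by
      rw [← QuotientGroup.eq_one_iff, hc]
      simp only [QuotientGroup.mk_mul, QuotientGroup.mk_inv]
      rw [hab.eq]
      group
    have hcc : ∀ g : G, c * g = g * c := fun g => (Subgroup.mem_center_iff.1 hcZ g).symm
    have h1 : A * B * A⁻¹ = c * B := by rw [hc]; group
    have h2 : c ^ r = 1 := by
      have h3 : (A * B * A⁻¹) ^ r = 1 := by rw [conj_pow, hB, mul_one, mul_inv_cancel]
      rw [h1, Commute.mul_pow (hcc B), hB, mul_one] at h3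
      exact h3
    have h4 : c ^ (Nat.card (Subgroup.center G)) = 1 := by
      have h3 : (⟨c, hcZ⟩ : Subgroup.center G) ^ (Nat.card (Subgroup.center G)) = 1 := pow_card_eq_one'
      exact congrArg Subtype.val h3
    have h5 : c = 1 := by
      have h6 := pow_gcd_eq_one.2 ⟨h2, h4⟩
      rw [((Nat.Prime.coprime_iff_not_dvd hr).2 hrZ), pow_one] at h6
      exact h6
    rw [h5, one_mul] at h1
    calc A * B = (A * B * A⁻¹) * A := by group
      _ = B * A := by rw [h1]

end lift

section eig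

open Module.End

/-- an endomorphism commuting with a square-zero endomorphism `L ≠ 0` has a multiple eigenvalue -/
theorem exists_multiple_root {K V : Type*} [Field K] [IsAlgClosed K] [AddCommGroup V] [Module K V]
    [FiniteDimensional K V] (B L : Module.End K V) (hc : Commute B L) (hL : L ≠ 0) (hL2 : L * L = 0) :
    ∃ x : K, 2 ≤ B.charpoly.rootMultiplicity x := by
  by_contra hcon
  push Not at hcon
  apply hL
  have h1 : ∀ x : K, ∀ v ∈ B.maxGenEigenspace x, L v = 0 := by
    intro x v hv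
    have h2 : Module.finrank K (B.maxGenEigenspace x) ≤ 1 := by
      rw [LinearMap.finrank_maxGenEigenspace_eq]
      have := hcon x
      omega
    obtain ⟨⟨w, hw⟩, hw1⟩ := finrank_le_one_iff.1 h2
    obtain ⟨c, hc1⟩ := hw1 ⟨v, hv⟩
    have hLv : L v ∈ B.maxGenEigenspace x := mapsTo_maxGenEigenspace_of_comm hc x hv
    obtain ⟨d, hd⟩ := hw1 ⟨L v, hLv⟩
    have hv' : c • w = v := congrArg Subtype.val hc1
    have hd' : d • w = L v := congrArg Subtype.val hd
    by_contra hne
    have hd0 : d ≠ 0 := by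
      rintro rfl
      rw [zero_smul] at hd'
      exact hne hd'.symm
    have h3 : L (L v) = 0 := by
      have := LinearMap.congr_fun hL2 v
      simpa using this
    have h4 : L w = 0 := by
      rw [← hd', map_smul] at h3
      exact (smul_eq_zero.1 h3).resolve_left hd0
    apply hne
    rw [← hv', map_smul, h4, smul_zero]
  have h2 : (⊤ : Submodule K V) ≤ LinearMap.ker L := by
    rw [← iSup_maxGenEigenspace_eq_top B]
    exact iSup_le fun x v hv => h1 x v hv
  ext v
  exact h2 (Submodule.mem_top : v ∈ (⊤ : Submodule K V))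

/-- **a matrix commuting with a non-trivial unipotent matrix has a multiple eigenvalue** -/
theorem exists_multiple_root_matrix {K ι : Type*} [Field K] [IsAlgClosed K] [Fintype ι] [DecidableEq ι] (p : ℕ)
    [Fact p.Prime] [CharP K p] {A B : Matrix ι ι K} (hA : A ^ p = 1) (hA1 : A ≠ 1) (hAB : A * B = B * A) :
    ∃ x : K, 2 ≤ B.charpoly.rootMultiplicity x := by
  classical
  have hne : Nonempty ι := by
    by_contra h
    rw [not_nonempty_iff] at h
    exact hA1 (Subsingleton.elim _ _)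
  have : CharP (Matrix ι ι K) p := Matrix.charP p
  set M := A - 1 with hM
  have hM0 : M ≠ 0 := sub_ne_zero.2 hA1
  have hMp : M ^ p = 0 := by
    rw [hM, sub_pow_char_of_commute p (Commute.one_right A), hA, one_pow, sub_self]
  have hex : ∃ k, M ^ k = 0 := ⟨p, hMp⟩
  obtain ⟨k, hk⟩ : ∃ k, Nat.find hex = k := ⟨_, rfl⟩
  have hk0 : M ^ k = 0 := by rw [← hk]; exact Nat.find_spec hex
  have hkmin : ∀ j < k, M ^ j ≠ 0 := fun j hj => Nat.find_min hex (by rw [hk]; exact hj)
  have hk2 : 2 ≤ k := by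
    rcases Nat.lt_or_ge k 2 with h | h
    · interval_cases k
      · rw [pow_zero] at hk0
        exact absurd (by rw [← mul_one M, hk0, mul_zero]) hM0
      · rw [pow_one] at hk0
        exact absurd hk0 hM0
    · exact h
  set L := M ^ (k - 1) with hL
  have hL0 : L ≠ 0 := hkmin _ (by omega)
  have hLL : L * L = 0 := by
    rw [hL, ← pow_add]
    exact pow_eq_zero_of_le (by omega) hk0
  have hMB : Commute M B := by
    rw [hM]
    exact Commute.sub_left hAB (Commute.one_left B)
  have hLB : Commute L B := hMB.pow_left _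
  obtain ⟨x, hx⟩ := exists_multiple_root (Matrix.toLin' B) (Matrix.toLin' L) (by
      show Matrix.toLin' B * Matrix.toLin' L = Matrix.toLin' L * Matrix.toLin' B
      rw [Module.End.mul_eq_comp, Module.End.mul_eq_comp, ← Matrix.toLin'_mul B L, ← Matrix.toLin'_mul L B, hLB.eq])
    (fun h => hL0 (by
      apply (Matrix.toLin' (R := K) (m := ι) (n := ι)).injective
      rw [h, map_zero]))
    (by rw [Module.End.mul_eq_comp, ← Matrix.toLin'_mul L L, hLL, map_zero])
  rw [Matrix.charpoly_toLin'] at hx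
  exact ⟨x, hx⟩

end eig

section period

/-- **period bound**: the multiset `R` of the eigenvalues, all `r`-th roots of unity, with multiplicities invariant under
`x ↦ x ^ T`, containing `μ ≠ 1` and an element of multiplicity at least two -/
theorem period_bound {K : Type*} [Field K] [DecidableEq K] {R : Multiset K} {r T : ℕ} (hr : r.Prime) (hT : ¬ r ∣ T)
    (hR : ∀ x ∈ R, x ^ r = 1) (hθ : ∀ x ∈ R, R.count (x ^ T) = R.count x) {μ : K} (hμ : μ ∈ R) (hμ1 : μ ≠ 1) {l : K}
    (hl : 2 ≤ R.count l) (hn : 4 ≤ Multiset.card R) :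
    ∃ s : ℕ, 1 ≤ s ∧ s + 2 ≤ Multiset.card R ∧ (T : ZMod r) ^ s = 1 := by
  have : Fact r.Prime := ⟨hr⟩
  have hT0 : (T : ZMod r) ≠ 0 := by
    rw [Ne, ZMod.natCast_eq_zero_iff]
    exact hT
  set s := orderOf (T : ZMod r) with hs
  have hfin : IsOfFinOrder (T : ZMod r) := by
    rw [isOfFinOrder_iff_pow_eq_one]
    refine ⟨r - 1, ?_, ?_⟩
    · have := hr.two_le
      omega
    · exact ZMod.pow_card_sub_one_eq_one hT0
  have hs1 : 1 ≤ s := orderOf_pos_iff.2 hfin
  have hTs : (T : ZMod r) ^ s = 1 := pow_orderOf_eq_one _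
  -- orbits
  have horb : ∀ x ∈ R, ∀ i : ℕ, x ^ (T ^ i) ∈ R ∧ R.count (x ^ (T ^ i)) = R.count x := by
    intro x hx i
    induction i with
    | zero => simpa using hx
    | succ i ih =>
      obtain ⟨h1, h2⟩ := ih
      have h3 := hθ _ h1
      rw [← pow_mul, ← pow_succ] at h3
      refine ⟨?_, h3.trans h2⟩
      rw [← Multiset.one_le_count_iff_mem, h3]
      exact Multiset.one_le_count_iff_mem.2 h1
  have hord : ∀ x ∈ R, x ≠ 1 → orderOf x = r := fun x hx hx1 => orderOf_eq_prime (hR x hx) hx1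
  have hinj : ∀ x ∈ R, x ≠ 1 → Set.InjOn (fun i : ℕ => x ^ (T ^ i)) (Finset.range s : Set ℕ) := by
    intro x hx hx1 i hi j hj hij
    rw [Finset.coe_range, Set.mem_Iio] at hi hj
    have h1 : x ^ (T ^ i) = x ^ (T ^ j) := hij
    have hx0 : x ≠ 0 := by
      rintro rfl
      have := hR 0 hx
      rw [zero_pow hr.ne_zero] at this
      exact zero_ne_one this
    have h2 : T ^ i ≡ T ^ j [MOD orderOf x] := by
      have h3 : (Units.mk0 x hx0) ^ (T ^ i) = (Units.mk0 x hx0) ^ (T ^ j) := by
        apply Units.ext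
        rw [Units.val_pow_eq_pow_val, Units.val_pow_eq_pow_val]
        exact h1
      have h4 : orderOf (Units.mk0 x hx0) = orderOf x := by
        rw [← orderOf_units, Units.val_mk0]
      rw [← h4]
      exact pow_eq_pow_iff_modEq.1 h3
    rw [hord x hx hx1, ← ZMod.natCast_eq_natCast_iff, Nat.cast_pow, Nat.cast_pow] at h2
    have hu : IsUnit (T : ZMod r) := hT0.isUnit
    obtain ⟨u, hu⟩ := hu
    have h5 : orderOf u = s := by rw [hs, ← hu, orderOf_units]
    have h6 : u ^ i = u ^ j := by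
      apply Units.ext
      rw [Units.val_pow_eq_pow_val, Units.val_pow_eq_pow_val, hu]
      exact h2
    exact pow_injOn_Iio_orderOf (by rw [Set.mem_Iio, h5]; exact hi) (by rw [Set.mem_Iio, h5]; exact hj) h6
  have hsum : ∀ (S : Finset K), ∑ y ∈ S, R.count y ≤ Multiset.card R := by
    intro S
    calc ∑ y ∈ S, R.count y ≤ ∑ y ∈ S ∪ R.toFinset, R.count y :=
          Finset.sum_le_sum_of_subset Finset.subset_union_left
      _ = ∑ y ∈ R.toFinset, R.count y := by
          symm
          apply Finset.sum_subset Finset.subset_union_right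
          intro y _ hy
          rw [Multiset.mem_toFinset] at hy
          exact Multiset.count_eq_zero_of_notMem hy
      _ = Multiset.card R := Multiset.toFinset_sum_count_eq R
  have hO : ∀ x ∈ R, x ≠ 1 → ((Finset.range s).image (fun i : ℕ => x ^ (T ^ i))).card = s ∧
      ∑ y ∈ (Finset.range s).image (fun i : ℕ => x ^ (T ^ i)), R.count y = s * R.count x := by
    intro x hx hx1
    have h1 := Finset.card_image_of_injOn (hinj x hx hx1)
    rw [Finset.card_range] at h1
    refine ⟨h1, ?_⟩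
    rw [Finset.sum_const_nat (m := R.count x), h1]
    intro y hy
    obtain ⟨i, -, rfl⟩ := Finset.mem_image.1 hy
    exact (horb x hx i).2
  refine ⟨s, hs1, ?_, hTs⟩
  have hlR : l ∈ R := by
    rw [← Multiset.one_le_count_iff_mem]
    omega
  by_cases hl1 : l = 1
  · subst hl1
    obtain ⟨h1, h2⟩ := hO μ hμ hμ1
    set O := (Finset.range s).image (fun i : ℕ => μ ^ (T ^ i)) with hOdef
    have h3 : (1 : K) ∉ O := by
      rw [hOdef, Finset.mem_image]
      rintro ⟨i, -, hi⟩
      have h4 : orderOf μ ∣ T ^ i := orderOf_dvd_of_pow_eq_one hi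
      rw [hord μ hμ hμ1] at h4
      exact hT (hr.dvd_of_dvd_pow h4)
    have h4 := hsum (insert 1 O)
    rw [Finset.sum_insert h3, h2] at h4
    have h5 : 1 ≤ R.count μ := Multiset.one_le_count_iff_mem.2 hμ
    have h6 : s * 1 ≤ s * R.count μ := Nat.mul_le_mul_left s h5
    omega
  · obtain ⟨h1, h2⟩ := hO l hlR hl1
    have h4 := hsum ((Finset.range s).image (fun i : ℕ => l ^ (T ^ i)))
    rw [h2] at h4
    have h6 : s * 2 ≤ s * R.count l := Nat.mul_le_mul_left s hl
    omega

end period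

end Cfsg.Agent.H127.CommPrime
end

-- part: H127/CommPrimeLin
section
/-!
# Primes of elements commuting with unipotent elements in `SL_n(q)`, `SU_n(q)` (helper127)

* `sl_period` : `A, B ∈ GL_n(Q)` commuting, `A ≠ 1` of order `p`, `B ≠ 1` of prime order `r ≠ p`, `n ≥ 4`: then
  `r ∣ Q ^ s - 1` for some `1 ≤ s ≤ n - 2`;
* `su_period` : the same for unitary matrices: `r ∣ q ^ s - (-1) ^ s`.
-/

set_option autoImplicit false

namespace Cfsg.Agent.H127.CommPrimeLin

open Matrix Polynomial Cfsg.Agent.H127.CommPrime Cfsg.Agent.H127.UnitRoots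

section gen

variable {K : Type*} [Field K] [IsAlgClosed K] {n : ℕ}

theorem card_roots (N : Matrix (Fin n) (Fin n) K) : Multiset.card N.charpoly.roots = n := by
  have h1 : N.charpoly.Splits := IsAlgClosed.splits _
  have h := splits_iff_card_roots.1 h1
  rw [Matrix.charpoly_natDegree_eq_dim, Fintype.card_fin] at h
  exact h

theorem pow_of_root {N : Matrix (Fin n) (Fin n) K} {r : ℕ} (hN : N ^ r = 1) {x : K} (hx : x ∈ N.charpoly.roots) :
    x ^ r = 1 := by
  have h1 : N.charpoly.eval x = 0 := (mem_roots'.1 hx).2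
  rw [Matrix.eval_charpoly] at h1
  obtain ⟨v, hv0, hv⟩ := Matrix.exists_mulVec_eq_zero_iff.2 h1
  have h2 : N *ᵥ v = x • v := by
    rw [Matrix.sub_mulVec, sub_eq_zero] at hv
    rw [← hv]
    ext i
    rw [Matrix.scalar_apply, Matrix.mulVec_diagonal]
    rfl
  have h3 : ∀ k : ℕ, (N ^ k) *ᵥ v = x ^ k • v := by
    intro k
    induction k with
    | zero => simp
    | succ k ih => rw [pow_succ, ← Matrix.mulVec_mulVec, h2, Matrix.mulVec_smul, ih, smul_smul, ← pow_succ']
  have h4 := h3 r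
  rw [hN, Matrix.one_mulVec] at h4
  have h5 : (x ^ r - 1) • v = 0 := by rw [sub_smul, ← h4, one_smul, sub_self]
  rcases smul_eq_zero.1 h5 with h6 | h6
  · exact sub_eq_zero.1 h6
  · exact absurd h6 hv0

theorem exists_root_ne_one (p : ℕ) [Fact p.Prime] [CharP K p] {N : Matrix (Fin n) (Fin n) K} {r : ℕ} (hr : r.Prime)
    (hrp : r ≠ p) (hN : N ^ r = 1) (hN1 : N ≠ 1) : ∃ x ∈ N.charpoly.roots, x ≠ 1 := by
  classical
  by_contra hcon
  push Not at hcon
  apply hN1
  have hn : Nonempty (Fin n) := by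
    by_contra h
    rw [not_nonempty_iff] at h
    exact hN1 (Subsingleton.elim _ _)
  have : CharP (Matrix (Fin n) (Fin n) K) p := Matrix.charP p
  have h1 : N.charpoly.Splits := IsAlgClosed.splits _
  have h5 := h1.eq_prod_roots_of_monic (Matrix.charpoly_monic N)
  have h6 : N.charpoly.roots = Multiset.replicate n 1 := by
    rw [Multiset.eq_replicate]
    exact ⟨card_roots N, hcon⟩
  rw [h6, Multiset.map_replicate, Multiset.prod_replicate] at h5
  have h7 : (N - 1) ^ n = 0 := by
    have h8 := Matrix.aeval_self_charpoly N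
    rw [h5, map_pow, map_sub, aeval_X, aeval_C, map_one] at h8
    exact h8
  obtain ⟨k, hk⟩ : ∃ k, n ≤ p ^ k := ⟨n, (Nat.lt_pow_self (Fact.out : p.Prime).one_lt).le⟩
  have h8 : (N - 1) ^ (p ^ k) = 0 := pow_eq_zero_of_le hk h7
  rw [sub_pow_char_pow_of_commute p _ (Commute.one_right N), one_pow, sub_eq_zero] at h8
  have h9 := pow_gcd_eq_one.2 ⟨h8, hN⟩
  have h10 : Nat.gcd (p ^ k) r = 1 :=
    Nat.Coprime.pow_left k ((Nat.coprime_primes Fact.out hr).2 (Ne.symm hrp))
  rw [h10, pow_one] at h9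
  exact h9

end gen

section lin

variable {F : Type*} [Field F] {n : ℕ}

theorem map_ne_one {N : Matrix (Fin n) (Fin n) F} (K : Type*) [Field K] [Algebra F K] (h : N ≠ 1) :
    N.map (algebraMap F K) ≠ 1 := by
  intro h1
  apply h
  apply Matrix.map_injective (algebraMap F K).injective
  show N.map (algebraMap F K) = (1 : Matrix (Fin n) (Fin n) F).map (algebraMap F K)
  rw [h1, Matrix.map_one _ (map_zero _) (map_one _)]

theorem map_pow_one {N : Matrix (Fin n) (Fin n) F} (K : Type*) [Field K] [Algebra F K] {k : ℕ} (h : N ^ k = 1) :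
    (N.map (algebraMap F K)) ^ k = 1 := by
  have h1 := congrArg (fun M => (algebraMap F K).mapMatrix M) h
  simp only [map_pow, map_one] at h1
  exact h1

/-- linear case -/
theorem sl_period [Fintype F] (p : ℕ) [Fact p.Prime] [CharP F p] (hn : 4 ≤ n) {A B : Matrix (Fin n) (Fin n) F} (hA : A ^ p = 1)
    (hA1 : A ≠ 1) {r : ℕ} (hr : r.Prime) (hrp : r ≠ p) (hB : B ^ r = 1) (hB1 : B ≠ 1) (hAB : A * B = B * A) :
    ∃ s : ℕ, 1 ≤ s ∧ s + 2 ≤ n ∧ (Fintype.card F : ZMod r) ^ s = 1 := by
  classical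
  let K := AlgebraicClosure F
  have : CharP K p := charP_of_injective_algebraMap (algebraMap F K).injective p
  obtain ⟨k, hpp, hk⟩ := FiniteField.card F p
  have : ExpChar K p := ExpChar.prime hpp
  set Q := Fintype.card F with hQ
  let φ : K →+* K := iterateFrobenius K p k
  have hφ : ∀ x : K, φ x = x ^ Q := fun x => by rw [hk]; exact iterateFrobenius_def p k x
  set N := B.map (algebraMap F K) with hN
  have hNchar : N.charpoly.map φ = N.charpoly := by
    have h1 : N.charpoly = B.charpoly.map (algebraMap F K) := by rw [hN, Matrix.charpoly_map]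
    rw [h1, Polynomial.map_map]
    congr 1
    ext c
    rw [RingHom.comp_apply, hφ, ← map_pow, hQ, FiniteField.pow_card]
  have hNA : (A.map (algebraMap F K)) * N = N * (A.map (algebraMap F K)) := by
    rw [hN, ← Matrix.map_mul, hAB, Matrix.map_mul]
  obtain ⟨l, hl⟩ := exists_multiple_root_matrix p (map_pow_one K hA) (map_ne_one K hA1) hNA
  obtain ⟨μ, hμ, hμ1⟩ := exists_root_ne_one p hr hrp (map_pow_one K hB) (map_ne_one K hB1)
  rw [← count_roots] at hl
  have hrQ : ¬ r ∣ Q := by
    rw [hk]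
    intro h
    exact hrp ((Nat.prime_dvd_prime_iff_eq hr hpp).1 (hr.dvd_of_dvd_pow h))
  have hmap : N.charpoly.roots.map φ = N.charpoly.roots := by
    have h1 : N.charpoly.Splits := IsAlgClosed.splits _
    have h2 := h1.roots_map φ
    rw [hNchar] at h2
    exact h2.symm
  have hθ : ∀ x ∈ N.charpoly.roots, N.charpoly.roots.count (x ^ Q) = N.charpoly.roots.count x := by
    intro x _
    rw [← hφ]
    conv_lhs => rw [← hmap]
    exact Multiset.count_map_eq_count' φ _ φ.injective x
  obtain ⟨s, hs1, hs2, hs3⟩ := period_bound hr hrQ (fun x hx => pow_of_root (map_pow_one K hB) hx) hθ hμ hμ1 hl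
    (by rw [card_roots]; exact hn)
  rw [card_roots] at hs2
  exact ⟨s, hs1, hs2, hs3⟩

end lin

section inv

variable {K : Type*} [Field K]

theorem roots_reverse_prod (R : Multiset K) (h0 : ∀ x ∈ R, x ≠ 0) :
    ((R.map (fun a => X - C a)).prod).reverse.roots = R.map (fun a => a⁻¹) := by
  induction R using Multiset.induction with
  | empty =>
    rw [Multiset.map_zero, Multiset.map_zero, Multiset.prod_zero, ← C_1, reverse_C, roots_C]
  | cons a S ih =>
    have ha : a ≠ 0 := h0 a (Multiset.mem_cons_self a S)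
    rw [Multiset.map_cons, Multiset.map_cons, Multiset.prod_cons, reverse_mul_of_domain]
    have h1 : (X - C a : K[X]).reverse = C (-a) * (X - C a⁻¹) := by
      have h2 : (X - C a : K[X]) = X + C (-a) := by rw [C_neg, sub_eq_add_neg]
      have h5 : (X : K[X]).reverse = 1 := by
        have h6 : ((1 : K[X]) * X).reverse = 1 := by rw [reverse_mul_X, ← C_1, reverse_C]
        rwa [one_mul] at h6
      rw [h2, reverse_add_C, h5, natDegree_X, mul_sub, ← C_mul, neg_mul, mul_inv_cancel₀ ha, C_neg, C_neg, C_1]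
      ring
    have h3 : (C (-a) * (X - C a⁻¹) : K[X]) ≠ 0 :=
      mul_ne_zero (C_ne_zero.2 (neg_ne_zero.2 ha)) (X_sub_C_ne_zero _)
    have h4 : ((S.map (fun a => X - C a)).prod : K[X]).reverse ≠ 0 := by
      rw [Ne, reverse_eq_zero]
      exact (monic_multiset_prod_of_monic _ _ (fun x _ => monic_X_sub_C x)).ne_zero
    rw [h1, roots_mul (mul_ne_zero h3 h4), roots_C_mul _ (neg_ne_zero.2 ha), roots_X_sub_C,
      ih (fun x hx => h0 x (Multiset.mem_cons_of_mem hx))]
    rfl

theorem roots_charpoly_inv {ι : Type*} [Fintype ι] [DecidableEq ι] (M : Matrix ι ι K)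
    (hM : IsUnit M) (hs : M.charpoly.Splits) : (M⁻¹).charpoly.roots = M.charpoly.roots.map (fun a => a⁻¹) := by
  have h1 := hs.eq_prod_roots_of_monic (Matrix.charpoly_monic M)
  have hdet : IsUnit M.det := (Matrix.isUnit_iff_isUnit_det M).1 hM
  rw [Matrix.charpoly_inv M hM, ← Matrix.reverse_charpoly]
  have h2 : ((-1) ^ Fintype.card ι * C (Ring.inverse M.det) : K[X]) =
      C ((-1) ^ Fintype.card ι * Ring.inverse M.det) := by
    simp
  have h3 : (-1) ^ Fintype.card ι * Ring.inverse M.det ≠ 0 := by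
    apply mul_ne_zero (pow_ne_zero _ (neg_ne_zero.2 one_ne_zero))
    exact (hdet.ringInverse).ne_zero
  rw [h2, roots_C_mul _ h3]
  conv_lhs => rw [h1]
  apply roots_reverse_prod
  rintro x hx rfl
  have h4 : M.charpoly.eval 0 = 0 := (mem_roots'.1 hx).2
  rw [Matrix.eval_charpoly, map_zero, zero_sub, Matrix.det_neg] at h4
  exact (mul_ne_zero (pow_ne_zero _ (neg_ne_zero.2 one_ne_zero)) hdet.ne_zero) h4

end inv

section uni

variable {F : Type*} [Field F] [Fintype F] {n q : ℕ}

/-- unitary case -/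
theorem su_period (p : ℕ) [Fact p.Prime] [CharP F p] (hF : Fintype.card F = q ^ 2) (hn : 4 ≤ n)
    {A B : Matrix (Fin n) (Fin n) F} (hA : A ^ p = 1)
    (hA1 : A ≠ 1) {r : ℕ} (hr : r.Prime) (hrp : r ≠ p) (hB : B ^ r = 1) (hB1 : B ≠ 1) (hAB : A * B = B * A)
    (hU : Bᵀ * B.map (fun x => x ^ q) = 1) :
    ∃ s : ℕ, 1 ≤ s ∧ s + 2 ≤ n ∧ (-(q : ZMod r)) ^ s = 1 := by
  classical
  let K := AlgebraicClosure F
  have : CharP K p := charP_of_injective_algebraMap (algebraMap F K).injective p
  obtain ⟨φ, hφ⟩ := exists_pow_hom hF K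
  obtain ⟨j, hj, -⟩ := exists_eq_pow hF p
  have hN := map_unit hF hU φ hφ
  set N := B.map (algebraMap F K) with hNdef
  have hNA : (A.map (algebraMap F K)) * N = N * (A.map (algebraMap F K)) := by
    rw [hNdef, ← Matrix.map_mul, hAB, Matrix.map_mul]
  obtain ⟨l, hl⟩ := exists_multiple_root_matrix p (map_pow_one K hA) (map_ne_one K hA1) hNA
  obtain ⟨μ, hμ, hμ1⟩ := exists_root_ne_one p hr hrp (map_pow_one K hB) (map_ne_one K hB1)
  rw [← count_roots] at hl
  have hT : ¬ r ∣ (r - 1) * q := by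
    intro h
    rcases hr.dvd_mul.1 h with h1 | h1
    · have h2 := Nat.le_of_dvd (by have := hr.two_le; omega) h1
      have := hr.two_le
      omega
    · rw [hj] at h1
      exact hrp ((Nat.prime_dvd_prime_iff_eq hr Fact.out).1 (hr.dvd_of_dvd_pow h1))
  have hsp : N.charpoly.Splits := IsAlgClosed.splits _
  have hmap : N.charpoly.roots.map φ = N.charpoly.roots.map (fun a => a⁻¹) := by
    have h2 := hsp.roots_map φ
    have h3 : N.map φ = (Nᵀ)⁻¹ := (Matrix.inv_eq_right_inv hN).symm
    have hu : IsUnit Nᵀ := by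
      rw [Matrix.isUnit_iff_isUnit_det]
      have h4 : Nᵀ.det * (N.map φ).det = 1 := by rw [← Matrix.det_mul, hN, Matrix.det_one]
      exact IsUnit.of_mul_eq_one _ h4
    have h5 := roots_charpoly_inv Nᵀ hu (by rw [Matrix.charpoly_transpose]; exact hsp)
    rw [Matrix.charpoly_transpose, ← h3, Matrix.charpoly_map] at h5
    exact h2.symm.trans h5
  have hθ : ∀ x ∈ N.charpoly.roots, N.charpoly.roots.count (x ^ ((r - 1) * q)) = N.charpoly.roots.count x := by
    intro x hx
    have hxr := pow_of_root (map_pow_one K hB) hx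
    have hx0 : x ≠ 0 := by
      rintro rfl
      rw [zero_pow hr.ne_zero] at hxr
      exact zero_ne_one hxr
    have h1 : x ^ ((r - 1) * q) = (φ x)⁻¹ := by
      rw [mul_comm, pow_mul, ← hφ]
      have h2 : (φ x) ^ (r - 1) * φ x = 1 := by
        rw [← pow_succ, Nat.sub_add_cancel hr.one_lt.le, ← map_pow, hxr, map_one]
      exact eq_inv_of_mul_eq_one_left h2
    rw [h1]
    have h3 : (N.charpoly.roots.map (fun a => a⁻¹)).count (((φ x)⁻¹)⁻¹) = N.charpoly.roots.count ((φ x)⁻¹) :=
      Multiset.count_map_eq_count' (fun a : K => a⁻¹) _ inv_injective ((φ x)⁻¹)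
    rw [← h3, ← hmap, inv_inv]
    exact Multiset.count_map_eq_count' φ _ φ.injective x
  obtain ⟨s, hs1, hs2, hs3⟩ := period_bound hr hT (fun x hx => pow_of_root (map_pow_one K hB) hx) hθ hμ hμ1 hl
    (by rw [card_roots]; exact hn)
  rw [card_roots] at hs2
  refine ⟨s, hs1, hs2, ?_⟩
  rw [← hs3]
  congr 1
  rw [Nat.cast_mul, Nat.cast_sub hr.one_lt.le, ZMod.natCast_self]
  ring

end uni

end Cfsg.Agent.H127.CommPrimeLin
end

-- part: H127/CommPrimeOrd
section
/-!
# Prime divisors of `|SL_m(q)|`, `|SU_m(q)|` (helper127)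
-/

set_option autoImplicit false

namespace Cfsg.Agent.H127.CommPrimeOrd

section sl

variable {F : Type*} [Field F] [Fintype F]

/-- `|SL_{m+1}(F)| = Q ^ m ∏_{i < m} (Q ^ (m + 1) - Q ^ i)` -/
theorem card_sl (m : ℕ) : Nat.card (Matrix.SpecialLinearGroup (Fin (m + 1)) F) =
    Fintype.card F ^ m * ∏ i : Fin m, (Fintype.card F ^ (m + 1) - Fintype.card F ^ (i : ℕ)) := by
  have h := Cfsg.Agent.S0242.result (F := F) rfl (m + 1) (by omega)
  have h1 : 1 < Fintype.card F := Fintype.one_lt_card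
  rw [Fin.prod_univ_castSucc] at h
  simp only [Fin.val_castSucc, Fin.val_last] at h
  have h2 : Fintype.card F ^ (m + 1) - Fintype.card F ^ m = (Fintype.card F - 1) * Fintype.card F ^ m := by
    rw [Nat.sub_mul, one_mul, pow_succ, mul_comm]
  rw [h2] at h
  apply Nat.eq_of_mul_eq_mul_left (show 0 < Fintype.card F - 1 by omega)
  rw [h]
  ring

theorem sl_dvd {m : ℕ} (hm : 2 ≤ m) {r s : ℕ} (hs1 : 1 ≤ s) (hsm : s ≤ m)
    (h : (Fintype.card F : ZMod r) ^ s = 1) : r ∣ Nat.card (Matrix.SpecialLinearGroup (Fin m) F) := by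
  have h1 : 1 < Fintype.card F := Fintype.one_lt_card
  obtain ⟨t, ht2, htm, ht⟩ : ∃ t : ℕ, 2 ≤ t ∧ t ≤ m ∧ r ∣ Fintype.card F ^ t - 1 := by
    have key : ∀ t : ℕ, (Fintype.card F : ZMod r) ^ t = 1 → r ∣ Fintype.card F ^ t - 1 := by
      intro t ht
      rw [← ZMod.natCast_eq_zero_iff, Nat.cast_sub (Nat.one_le_pow _ _ (by omega)), Nat.cast_pow, ht]
      simp
    rcases Nat.lt_or_ge s 2 with h2 | h2
    · have hs : s = 1 := by omega
      subst hs
      refine ⟨2, le_refl _, hm, key 2 ?_⟩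
      rw [pow_one] at h
      rw [h, one_pow]
    · exact ⟨s, h2, hsm, key s h⟩
  obtain ⟨m, rfl⟩ : ∃ k, m = k + 1 := ⟨m - 1, by omega⟩
  rw [card_sl]
  apply dvd_mul_of_dvd_right
  have h3 : (Fintype.card F ^ (m + 1) - Fintype.card F ^ (m + 1 - t)) ∣
      ∏ i : Fin m, (Fintype.card F ^ (m + 1) - Fintype.card F ^ (i : ℕ)) := by
    have := Finset.dvd_prod_of_mem (fun i : Fin m => Fintype.card F ^ (m + 1) - Fintype.card F ^ (i : ℕ))
      (Finset.mem_univ (⟨m + 1 - t, by omega⟩ : Fin m))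
    exact this
  refine dvd_trans ?_ h3
  have h4 : Fintype.card F ^ (m + 1) - Fintype.card F ^ (m + 1 - t) =
      (Fintype.card F ^ t - 1) * Fintype.card F ^ (m + 1 - t) := by
    rw [Nat.sub_mul, one_mul, ← pow_add]
    congr 2
    omega
  rw [h4]
  exact dvd_mul_of_dvd_left ht _

theorem sl_dvd_char {m : ℕ} (hm : 2 ≤ m) (p : ℕ) [Fact p.Prime] [CharP F p] :
    p ∣ Nat.card (Matrix.SpecialLinearGroup (Fin m) F) := by
  obtain ⟨m, rfl⟩ : ∃ k, m = k + 1 := ⟨m - 1, by omega⟩
  obtain ⟨k, hpp, hk⟩ := FiniteField.card F p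
  rw [card_sl]
  apply dvd_mul_of_dvd_left
  rw [hk]
  exact dvd_pow (dvd_pow_self p k.pos.ne') (by omega)

end sl

section su

variable {F : Type*} [Field F] [Fintype F] {q : ℕ}

theorem card_su (hF : Fintype.card F = q ^ 2) (m : ℕ) : Nat.card (Cfsg.SU (m + 1) F q) =
    q ^ ((m + 1) * m / 2) * ∏ i ∈ Finset.range m, (if Even (i + 1) then q ^ (i + 1 + 1) + 1 else q ^ (i + 1 + 1) - 1) := by
  have h := Cfsg.Agent.S0278.result (F := F) hF (m + 1) (by omega)
  rw [Finset.prod_range_succ'] at h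
  simp only [Even.zero, if_true, zero_add, pow_one, Nat.add_sub_cancel] at h
  apply Nat.eq_of_mul_eq_mul_left (show 0 < q + 1 by omega)
  rw [h]
  ring

theorem su_dvd (hF : Fintype.card F = q ^ 2) {m : ℕ} (hm : 2 ≤ m) {r s : ℕ} (hs1 : 1 ≤ s) (hsm : s ≤ m)
    (h : (-(q : ZMod r)) ^ s = 1) : r ∣ Nat.card (Cfsg.SU m F q) := by
  have hq : 1 ≤ q := by
    rcases Nat.eq_zero_or_pos q with h0 | h0
    · subst h0
      have := Fintype.one_lt_card (α := F)
      rw [hF] at this
      simp at this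
    · exact h0
  obtain ⟨t, ht2, htm, ht⟩ : ∃ t : ℕ, 2 ≤ t ∧ t ≤ m ∧ r ∣ (if Even (t - 1) then q ^ t + 1 else q ^ t - 1) := by
    have key : ∀ t : ℕ, 1 ≤ t → (-(q : ZMod r)) ^ t = 1 → r ∣ (if Even (t - 1) then q ^ t + 1 else q ^ t - 1) := by
      intro t ht1 ht
      split_ifs with h1
      · have h2 : Odd t := by
          have := h1.add_one
          rwa [Nat.sub_add_cancel ht1] at this
        rw [← ZMod.natCast_eq_zero_iff, Nat.cast_add, Nat.cast_pow, Nat.cast_one]
        rw [h2.neg_pow] at ht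
        rw [← ht]
        ring
      · have h2 : Even t := by
          rw [Nat.not_even_iff_odd] at h1
          have := h1.add_one
          rwa [Nat.sub_add_cancel ht1] at this
        rw [← ZMod.natCast_eq_zero_iff, Nat.cast_sub (Nat.one_le_pow _ _ hq), Nat.cast_pow, Nat.cast_one]
        rw [h2.neg_pow] at ht
        rw [ht]
        ring
    rcases Nat.lt_or_ge s 2 with h2 | h2
    · have hs : s = 1 := by omega
      subst hs
      refine ⟨2, le_refl _, hm, key 2 (by omega) ?_⟩
      rw [pow_one] at h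
      rw [h, one_pow]
    · exact ⟨s, h2, hsm, key s hs1 h⟩
  obtain ⟨m, rfl⟩ : ∃ k, m = k + 1 := ⟨m - 1, by omega⟩
  rw [card_su hF]
  apply dvd_mul_of_dvd_right
  have h3 := Finset.dvd_prod_of_mem (fun i : ℕ => if Even (i + 1) then q ^ (i + 1 + 1) + 1 else q ^ (i + 1 + 1) - 1)
    (Finset.mem_range.2 (show t - 2 < m by omega))
  refine dvd_trans ?_ h3
  have h5 : t - 2 + 1 = t - 1 := by omega
  have h6 : t - 1 + 1 = t := by omega
  simp only [h5, h6]
  exact ht

theorem su_dvd_char (hF : Fintype.card F = q ^ 2) {m : ℕ} (hm : 2 ≤ m) {p : ℕ} (hp : p ∣ q) :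
    p ∣ Nat.card (Cfsg.SU m F q) := by
  obtain ⟨m, rfl⟩ : ∃ k, m = k + 1 := ⟨m - 1, by omega⟩
  rw [card_su hF]
  apply dvd_mul_of_dvd_left
  refine dvd_pow hp ?_
  have h1 : 2 * 1 ≤ (m + 1) * m := Nat.mul_le_mul (by omega) (by omega)
  have h2 : 1 ≤ (m + 1) * m / 2 := by
    rw [Nat.le_div_iff_mul_le (by norm_num)]
    omega
  omega

end su

end Cfsg.Agent.H127.CommPrimeOrd
end
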